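import Cfsg.Agent.H796.RowF4_mg_m3
import Cfsg.Agent.H408.Pron.Defs
import Cfsg.Agent.H208.SelfCoOne
import Cfsg.Agent.KFacts.Th.Main
import Cfsg.Agent.KFacts.CoTwo.QuotInst
import Cfsg.Agent.H799.SymSyl
import Cfsg.Agent.H769.SpSix
import Cfsg.Agent.FastGrp
import Cfsg.Agent.Prune
set_option linter.all false

section
prune_inst 0x7f00000000000000000000000000000000000000000000000000000000000000000000000000000000000000000000000000000000000000000000000000000000000000000000000000000000000000003fffffffffffffffffffffffffffbeffbdffffffff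

-- part: H341/Pron/TorCent_mg
section
set_option linter.all false
open scoped Cfsg.Agent.FastGrp

-- part: H341/Pron/TorCent
section
/-!
# S2527: F4(q), E8(q), q odd (helper341): the elements of odd order of `N(S)` centralise the Sylow 2-subgroup `S`

The proof is helper796's proof of `OddRow` (H796/TorAbs, TorData, RowF4, RowE8) with a stronger conclusion.
-/

set_option autoImplicit false
set_option linter.unusedSectionVars false

namespace Cfsg.Agent.H341.PronTor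

open Subgroup Cfsg.Agent.H796.TorRow Cfsg.Agent.H796.TorAbs

universe u

/-- the elements of odd order of `N(S)` centralise `S` -/
def CentN (G : Type*) [Group G] : Prop :=
  ∃ S : Sylow 2 G, ∀ g ∈ normalizer ((S : Subgroup G) : Set G), Odd (orderOf g) →
    ∀ s ∈ (S : Subgroup G), g * s = s * g

theorem CentN.po {G : Type u} [Group G] [Finite G] (h : CentN G) (hC : Cfsg.Agent.H408.Pron.SC G) :
    Cfsg.Agent.H408.Pron.PO G := by
  obtain ⟨S, hS⟩ := h
  exact Cfsg.Agent.H408.Pron.PO.of_centralizes hC S hS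

section

variable {G : Type*} [Group G] {N : Subgroup G} {W : Type*} [Group W] {l : ℕ} {r : ↥N →* W}
    {act : W →* Module.End ℤ (Fin l → ℤ)} {k : Type*} [Field k] {χ : G → (Fin l → ℤ) → k} {ζ : k}
    (H : Tor r act χ ζ)

include H

/-- **The elements of odd order of `N(S)` centralise `S`.** -/
theorem centN [Finite G] (hl : 2 ≤ l) (hidx : ¬ 2 ∣ N.index)
    (hK : ∀ w, (∀ x, ∃ y, act w x - x = (2 : ℤ) • y) → w = 1 ∨ ∀ x, act w x = -x) {w : W} {n : ℕ}
    (hw : w ^ 2 ^ n = 1)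
    (hJ : ∃ x₁, ∀ x, ∃ (m : ℤ) (y z : Fin l → ℤ), x = m • x₁ + (act w y - y) + (2 : ℤ) • z) :
    CentN G := by
  classical
  have : Fact (Nat.Prime 2) := ⟨Nat.prime_two⟩
  obtain ⟨p, hp, j, hj⟩ := H.exists_lift hw
  have hpp : IsPGroup 2 (zpowers p) := by
    rintro ⟨_, i, rfl⟩
    refine ⟨j, Subtype.ext ?_⟩
    show (p ^ i) ^ 2 ^ j = 1
    rw [← zpow_natCast, ← zpow_mul, mul_comm, zpow_mul, zpow_natCast, hj, one_zpow]
  obtain ⟨Q, hQ⟩ := hpp.exists_le_sylow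
  have hpQ : p ∈ Q := hQ (mem_zpowers p)
  have hP2 : IsPGroup 2 ((Q : Subgroup ↥N).map N.subtype) := Q.2.map _
  have hPi : ¬ 2 ∣ ((Q : Subgroup ↥N).map N.subtype).index := by
    rw [index_map_subtype, Nat.prime_two.dvd_mul]
    rintro (h | h)
    · exact Q.not_dvd_index h
    · exact hidx h
  obtain ⟨P, hP⟩ : ∃ P : Subgroup G, P = (Q : Subgroup ↥N).map N.subtype := ⟨_, rfl⟩
  obtain ⟨A, hA⟩ : ∃ A : Subgroup G, A = ((Q : Subgroup ↥N) ⊓ r.ker).map N.subtype := ⟨_, rfl⟩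
  have hPm : ∀ x, x ∈ P ↔ ∃ a : ↥N, a ∈ Q ∧ (a : G) = x := fun x => by rw [hP]; exact Iff.rfl
  have hAm : ∀ x, x ∈ A ↔ ∃ a : ↥N, (a ∈ Q ∧ r a = 1) ∧ (a : G) = x := fun x => by rw [hA]; exact Iff.rfl
  obtain ⟨ρ, hρ⟩ : ∃ ρ : G → W, ∀ a : ↥N, ρ a = r a := by
    refine ⟨fun g => if h : g ∈ N then r ⟨g, h⟩ else 1, fun a => ?_⟩
    simp
  have D : Dat P A act ρ χ ζ :=
    { le := by
        intro x hx
        obtain ⟨a, ⟨ha, -⟩, rfl⟩ := (hAm x).1 hx
        exact (hPm _).2 ⟨a, ha, rfl⟩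
      two := by rw [hP]; exact hP2
      conj := by
        intro x hx a ha
        obtain ⟨x, hxQ, rfl⟩ := (hPm x).1 hx
        obtain ⟨a, ⟨haQ, ha1⟩, rfl⟩ := (hAm a).1 ha
        refine (hAm _).2 ⟨x * a * x⁻¹, ⟨mul_mem (mul_mem hxQ haQ) (inv_mem hxQ), ?_⟩, rfl⟩
        rw [map_mul, map_mul, ha1, mul_one, map_inv, mul_inv_cancel]
      comm := by
        intro a ha b hb
        obtain ⟨a, ⟨ha, ha1⟩, rfl⟩ := (hAm a).1 ha
        obtain ⟨b, ⟨hb, hb1⟩, rfl⟩ := (hAm b).1 hb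
        exact congrArg Subtype.val (H.comm a b ha1 hb1)
      rho_mul := by
        intro x hx y hy
        obtain ⟨x, hx, rfl⟩ := (hPm x).1 hx
        obtain ⟨y, hy, rfl⟩ := (hPm y).1 hy
        rw [← Subgroup.coe_mul, hρ, hρ, hρ, map_mul]
      ker := by
        intro x hx h1
        obtain ⟨x, hxQ, rfl⟩ := (hPm x).1 hx
        rw [hρ] at h1
        exact (hAm _).2 ⟨x, ⟨hxQ, h1⟩, rfl⟩
      ker' := by
        intro x hx
        obtain ⟨x, ⟨hx, hx1⟩, rfl⟩ := (hAm x).1 hx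
        rw [hρ, hx1]
      mul := by
        intro a ha b hb x
        obtain ⟨a, ⟨ha, ha1⟩, rfl⟩ := (hAm a).1 ha
        obtain ⟨b, ⟨hb, hb1⟩, rfl⟩ := (hAm b).1 hb
        exact H.mul a b ha1 hb1 x
      add := by
        intro a ha x y
        obtain ⟨a, ⟨ha, ha1⟩, rfl⟩ := (hAm a).1 ha
        exact H.add a ha1 x y
      zero := by
        intro a ha
        obtain ⟨a, ⟨ha, ha1⟩, rfl⟩ := (hAm a).1 ha
        exact H.zero a ha1
      inj := by
        intro a ha h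
        obtain ⟨a, ⟨ha, ha1⟩, rfl⟩ := (hAm a).1 ha
        rw [H.inj a ha1 h]
        rfl
      chi_act := by
        intro x hx a ha y
        obtain ⟨x, hx, rfl⟩ := (hPm x).1 hx
        obtain ⟨a, ⟨ha, ha1⟩, rfl⟩ := (hAm a).1 ha
        rw [hρ]
        exact H.chi_act x a ha1 y
      prim := H.prim
      rich := by
        intro i
        obtain ⟨t, ht, h1⟩ := H.rich i
        have hpow : ∀ n : ℕ, r (t ^ n) = 1 ∧ ∀ x, χ ((t ^ n : ↥N) : G) x = (ζ ^ (x i)) ^ n := by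
          intro n
          induction n with
          | zero =>
            refine ⟨by rw [pow_zero, map_one], fun x => ?_⟩
            have h2 := H.mul 1 t (map_one r) ht x
            rw [Subgroup.coe_one, one_mul] at h2
            have h3 : χ t x ≠ 0 := by
              rw [h1]
              exact zpow_ne_zero _ (H.prim.ne_zero (by norm_num))
            rw [pow_zero, pow_zero, Subgroup.coe_one]
            exact (mul_eq_right₀ h3).1 h2.symm
          | succ n ih =>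
            refine ⟨by rw [pow_succ, map_mul, ih.1, ht, one_mul], fun x => ?_⟩
            rw [pow_succ, Subgroup.coe_mul, H.mul _ _ ih.1 ht, ih.2, h1, pow_succ]
        have h4 : t ^ 4 = 1 := by
          refine H.inj _ (hpow 4).1 fun x => ?_
          rw [(hpow 4).2, ← zpow_natCast, ← zpow_mul, mul_comm, zpow_mul, zpow_natCast, H.prim.pow_eq_one, one_zpow]
        exact ⟨t, (hAm _).2 ⟨t, ⟨H.mem_sylow ht h4 Q, ht⟩, rfl⟩, h1⟩ }
  have hmain := fun {g : G} => D.main hl hK (g := g) ⟨p, (hPm _).2 ⟨p, hpQ, rfl⟩, by rw [hρ, hp]; exact hJ⟩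
  refine ⟨hP2.toSylow hPi, fun g hg ho s hs => ?_⟩
  have hs' : s ∈ P := by rw [hP]; exact hs
  rw [IsPGroup.toSylow_coe, ← hP] at hg
  have h1 := hmain ho (fun x hx => (mem_normalizer_iff.1 hg x).1 hx) s hs'
  calc g * s = g * s * g⁻¹ * g := by group
    _ = s * g := by rw [h1]


end

open CoxeterSystem Cfsg Cfsg.Lie Cfsg.Lie.ChevalleyDatum
open Cfsg.Agent.ChevalleyStructure Cfsg.Agent.ChevalleyStructure.Elts Cfsg.Agent.ChevalleyStructure.CoxeterGeom
  Cfsg.Agent.ChevalleyStructure.CoxeterGeomTypes Cfsg.Agent.ChevalleyStructure.NPerm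
  Cfsg.Agent.ChevalleyStructure.RootVec
open Cfsg.Agent.Tits.Roots Cfsg.Agent.Tits.Core Cfsg.Agent.Nodes Cfsg.Agent.Nodes.Reps Cfsg.Agent.Nodes.BNOf
  Cfsg.Agent.Nodes.RGDChev
open Cfsg.Agent.H129.TorusChar Cfsg.Agent.H129.WData
open Cfsg.Agent.H796.TorInst Cfsg.Agent.H796.TorData

/-- the group of type `D` -/
theorem cent_of {D : ChevalleyDatum} {l : ℕ} {M : CoxeterMatrix (Fin l)} (hp : IsType D l M)
    {W : Type*} [Group W] (cs : CoxeterSystem M W) [Finite W] {F : Type u} [Field F] [Fintype F] {q : ℕ}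
    (hq : Fintype.card F = q) (hodd : Odd q) {B' : Fin l → Fin l → ℤ} (hB : InvC D l 1 B') (hl : 2 ≤ l)
    (hminus : ∃ w0 : W, ∀ x, rep cs hp.isCartan w0 x = -x)
    (hK : ∀ w : W, (∀ x, ∃ y, rep cs hp.isCartan w x - x = (2 : ℤ) • y) →
      w = 1 ∨ ∀ x, rep cs hp.isCartan w x = -x) {w : W} {n : ℕ} (hw : w ^ 2 ^ n = 1)
    (hJ : ∃ x₁, ∀ x, ∃ (m : ℤ) (y z : Fin l → ℤ),
      x = m • x₁ + (rep cs hp.isCartan w y - y) + (2 : ℤ) • z)
    (hcard : ∀ m : ℕ, 4 ∣ m → m ≠ 0 → (q = m + 1 ∨ q + 1 = m) → ∀ c : ℕ,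
      m ^ l * Nat.card W * c = Nat.card ↥(D.group F) → ¬ 2 ∣ c) : CentN ↥(D.group F) := by
  have : Finite ↥(D.group F) := inferInstance
  have hq1 : 1 < q := by rw [← hq]; exact Fintype.one_lt_card
  obtain ⟨m, w0, s, hs, hw0, hms, h4, hm0, hqm⟩ : ∃ (m : ℕ) (w0 : W) (s : ℤ), (s = 1 ∨ s = -1) ∧
      (∀ x, rep cs hp.isCartan w0 x = s • x) ∧ ((m : ℤ) = q - s) ∧ 4 ∣ m ∧ m ≠ 0 ∧ (q = m + 1 ∨ q + 1 = m) := by
    obtain ⟨c, hc⟩ := hodd
    rcases Nat.even_or_odd' c with ⟨d, hd | hd⟩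
    · refine ⟨4 * d, 1, 1, Or.inl rfl, fun x => by rw [map_one, Module.End.one_apply, one_smul], ?_,
        ⟨d, rfl⟩, by omega, by omega⟩
      push_cast
      omega
    · obtain ⟨w0, hw0⟩ := hminus
      refine ⟨4 * (d + 1), w0, -1, Or.inr rfl, fun x => by rw [hw0, neg_one_smul], ?_, ⟨d + 1, rfl⟩, by omega,
        by omega⟩
      push_cast
      omega
  obtain ⟨N, r, χ, ζ, H, hN⟩ := exists_tor hp cs hq hB hs hw0 hms h4 hm0
  refine centN H hl (hcard m h4 hm0 hqm _ ?_) hK hw hJ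
  rw [← hN, N.card_mul_index]

section

open Cfsg.Agent.H796.RowF4

/-- `F4` -/
theorem cent_F4 {F : Type u} [Field F] [Fintype F] (hodd : Odd (Fintype.card F)) :
    CentN ↥(chevF4.group F) := by
  obtain ⟨q, hq⟩ : ∃ q, Fintype.card F = q := ⟨_, rfl⟩
  rw [hq] at hodd
  have hW : Nat.card CoxeterMatrix.F₄.Group = 1152 :=
    Cfsg.Agent.S1092.result (⟨4, CoxeterMatrix.F₄⟩, 1152) (by simp)
  have : Finite CoxeterMatrix.F₄.Group := Nat.finite_of_card_ne_zero (by rw [hW]; norm_num)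
  obtain ⟨cs, -⟩ : ∃ cs : CoxeterSystem CoxeterMatrix.F₄ CoxeterMatrix.F₄.Group, True :=
    ⟨CoxeterMatrix.F₄.toCoxeterSystem, trivial⟩
  have h1 := chain_rep isType cs hA Lw_ok
  have h2 := rep_mul_mat isType cs h1 h1 hX2
  have h4 := rep_mul_mat isType cs h2 h2 hX4
  have h8 := rep_mul_mat isType cs h4 h4 hX8
  have c1 := chain_rep isType cs hA Lc_ok
  have c2 := rep_mul_mat isType cs c1 c1 hC2
  have c4 := rep_mul_mat isType cs c2 c2 hC4
  have c6 := rep_mul_mat isType cs c4 c2 hC6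
  have hw8 := eq_one_of_mat isType cs h8 hX8'
  refine cent_of isType cs hq hodd invC_F4 (by norm_num) ⟨_, neg_of_mat isType cs c6 hC6'⟩
    (hK_of isType cs hKOK (by norm_num)) (w := cs.wordProd (Lw.map Prod.fst)) (n := 3) ?_
    (hJ_of isType cs h1 hJ) ?_
  · have e : ∀ w : CoxeterMatrix.F₄.Group, w * w * (w * w) * (w * w * (w * w)) = w ^ 2 ^ 3 := fun w => by
      show _ = w ^ 8
      simp only [pow_succ, pow_zero, one_mul, mul_assoc]
    rw [← e]
    exact hw8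
  · intro m hm hm0 hqm c hc h2c
    refine odd_of_card (l := 4) hm hm0 hqm [2, 6, 8, 12] (by decide) rfl (c := c) (N := 24) ?_ h2c
    rw [S1062.result hq, hW] at hc
    simp only [List.prod_cons, List.prod_nil, List.map_cons, List.map_nil]
    calc m ^ 4 * (2 * (6 * (8 * (12 * 1)))) * c = m ^ 4 * 1152 * c := by ring
      _ = q ^ 24 * (q ^ 2 - 1) * (q ^ 6 - 1) * (q ^ 8 - 1) * (q ^ 12 - 1) := hc
      _ = _ := by ring

end

section

open Cfsg.Agent.H796.RowE8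

/-- `E8` -/
theorem cent_E8 {F : Type u} [Field F] [Fintype F] (hodd : Odd (Fintype.card F)) :
    CentN ↥(chevE8.group F) := by
  obtain ⟨q, hq⟩ : ∃ q, Fintype.card F = q := ⟨_, rfl⟩
  rw [hq] at hodd
  have hW : Nat.card CoxeterMatrix.E₈.Group = 696729600 :=
    Cfsg.Agent.S1093.result (⟨8, CoxeterMatrix.E₈⟩, 696729600) (by simp)
  have : Finite CoxeterMatrix.E₈.Group := Nat.finite_of_card_ne_zero (by rw [hW]; norm_num)
  obtain ⟨cs, -⟩ : ∃ cs : CoxeterSystem CoxeterMatrix.E₈ CoxeterMatrix.E₈.Group, True :=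
    ⟨CoxeterMatrix.E₈.toCoxeterSystem, trivial⟩
  have h1 := chain_rep isType cs hA Lw_ok
  have h2 := rep_mul_mat isType cs h1 h1 hX2
  have h4 := rep_mul_mat isType cs h2 h2 hX4
  have h8 := rep_mul_mat isType cs h4 h4 hX8
  have c1 := chain_rep isType cs hA Lc_ok
  have c2 := rep_mul_mat isType cs c1 c1 hC2
  have c4 := rep_mul_mat isType cs c2 c2 hC4
  have c3 := rep_mul_mat isType cs c2 c1 hC3
  have c7 := rep_mul_mat isType cs c4 c3 hC7
  have c8 := rep_mul_mat isType cs c4 c4 hC8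
  have c15 := rep_mul_mat isType cs c8 c7 hC15
  have hw8 := eq_one_of_mat isType cs h8 hX8'
  refine cent_of isType cs hq hodd invC_E8 (by norm_num) ⟨_, neg_of_mat isType cs c15 hC15'⟩
    (hK_of isType cs hKOK (by norm_num)) (w := cs.wordProd (Lw.map Prod.fst)) (n := 3) ?_
    (hJ_of isType cs h1 hJ) ?_
  · have e : ∀ w : CoxeterMatrix.E₈.Group, w * w * (w * w) * (w * w * (w * w)) = w ^ 2 ^ 3 := fun w => by
      show _ = w ^ 8
      simp only [pow_succ, pow_zero, one_mul, mul_assoc]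
    rw [← e]
    exact hw8
  · intro m hm hm0 hqm c hc h2c
    refine odd_of_card (l := 8) hm hm0 hqm [2, 8, 12, 14, 18, 20, 24, 30] (by decide) rfl (c := c) (N := 120) ?_ h2c
    rw [S1065.result hq, hW] at hc
    simp only [List.prod_cons, List.prod_nil, List.map_cons, List.map_nil]
    calc m ^ 8 * (2 * (8 * (12 * (14 * (18 * (20 * (24 * (30 * 1)))))))) * c = m ^ 8 * 696729600 * c := by ring
      _ = q ^ 120 * (q ^ 2 - 1) * (q ^ 8 - 1) * (q ^ 12 - 1) * (q ^ 14 - 1) * (q ^ 18 - 1) * (q ^ 20 - 1) *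
        (q ^ 24 - 1) * (q ^ 30 - 1) := hc
      _ = _ := by ring

end

/-- **`F₄(q)`, `q` odd** -/
theorem po_F4 {F : Type u} [Field F] [Fintype F] (hodd : Odd (Fintype.card F))
    (hC : Cfsg.Agent.H408.Pron.SC ↥(chevF4.group F)) : Cfsg.Agent.H408.Pron.PO ↥(chevF4.group F) :=
  (cent_F4 hodd).po hC

/-- **`E₈(q)`, `q` odd** -/
theorem po_E8 {F : Type u} [Field F] [Fintype F] (hodd : Odd (Fintype.card F))
    (hC : Cfsg.Agent.H408.Pron.SC ↥(chevE8.group F)) : Cfsg.Agent.H408.Pron.PO ↥(chevE8.group F) :=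
  (cent_E8 hodd).po hC

end Cfsg.Agent.H341.PronTor
end

-- part: H621/Pron/ECen
section
/-!
# S2527: the rows `E₆(q)`, `E₇(q)`, `²E₆(q)`, `q` odd (task 2185, helper621)

The elements of odd order of `N(T)` centralise the Sylow 2-subgroup `T` (the proofs of helper745, with this conclusion).
-/

set_option autoImplicit false
set_option linter.unusedSectionVars false
set_option linter.style.haveILetI false

namespace Cfsg.Agent.H621.Pron

universe u v

/-- the elements of odd order of `N(T)` centralise `T`, for a Sylow 2-subgroup `T` -/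
def Cen (K : Type*) [Group K] : Prop :=
  ∃ T : Sylow 2 K, ∀ g ∈ Subgroup.normalizer ((T : Subgroup K) : Set K), Odd (orderOf g) →
    ∀ s ∈ (T : Subgroup K), g * s = s * g

theorem Cen.po {K : Type*} [Group K] [Finite K] (h : Cen K) (hC : Cfsg.Agent.H408.Pron.SC K) :
    Cfsg.Agent.H408.Pron.PO K := by
  obtain ⟨T, hT⟩ := h
  exact Cfsg.Agent.H408.Pron.PO.of_centralizes hC T hT

section FrameCen

open Cfsg.Agent.H745.RowAbs

theorem cen_of_frame {K : Type*} [Group K] [Finite K] {F : Type*} [Field F] [Fintype F] (hF : Odd (Fintype.card F))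
    {n : ℕ} {φ : Fin n → (Matrix.SpecialLinearGroup (Fin 2) F →* K)} {E : Set (Equiv.Perm (Fin n))} (H : Frame φ E)
    (i₀ : Fin n) : Cen K := by
  obtain ⟨T, hT⟩ := exists_sylow (Lam φ)
  exact ⟨T, fun g hg ho s hs => H.pre.centralizes_T hF T hT (fun i => Or.inl (H.nsq i)) i₀ hg ho s hs⟩

end FrameCen

section OfCls
open CoxeterSystem Cfsg.Agent.ChevalleyStructure.CoxeterGeom Cfsg.Agent.Tits.Roots Cfsg.Agent.Tits.Core
  Cfsg.Agent.Tits.RootComb Cfsg.Agent.Nodes.Comb Cfsg.Agent.Nodes.Reps Cfsg.Agent.Nodes.BNOf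
  Cfsg.Agent.Nodes.RGDLib Cfsg.Agent.Nodes.Chart Cfsg.Agent.Nodes.StabComb Cfsg.Agent.Nodes.Bruhat
  Cfsg.Agent.Nodes.ClsNorm Cfsg.Agent.Nodes.SubComb Cfsg.Agent.Nodes.Coroot Cfsg.Agent.Nodes.KindBase
  Cfsg.Agent.Nodes.Perp

local notation "SL2" => Matrix.SpecialLinearGroup (Fin 2)

variable {I W : Type u} {Y : Type v} [Fintype I] [DecidableEq I] [Group W] [Fintype W] [Group Y]
  {M : CoxeterMatrix I} {cs : CoxeterSystem M W} {A : I → I → ℤ} {h : IsCartan M A} {p : ℕ} {T : Subgroup Y}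
  {n : I → Y} {X : (I → ℤ) → Subgroup Y} {R : Set (I → ℤ)} {Z : (I → ℤ) → Subgroup Y} {z : (I → ℤ) → Y}
  (C : Cls cs h p T n X R Z z)

open Cfsg.Agent.H745.RowCls

variable {m : ℕ} {fr : Fin m → I → ℤ} {F : Type*} [Field F]

include C in
/-- **`Cen` from classical root groups.** -/
theorem cen_of_cls [Finite Y] (hp : p.Prime) (hp2 : Odd p) (hG : GG cs h T X = ⊤) [Fintype F]
    (hF : Odd (Fintype.card F))
    (Fs : FrameSys cs h R fr) (hno : ∀ x, IsRoot cs h x → ∃ k, form cs h x (fr k) ≠ 0)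
    (hTc : ∀ s ∈ T, ∀ t ∈ T, s * t = t * s)
    (hsep : ∀ k l, k ≠ l → ∃ y, IsRoot cs h y ∧ y ≠ fr k ∧ y ≠ -fr k ∧ form cs h y (fr k) ≠ 0 ∧ form cs h y (fr l) = 0)
    (htr : ∀ r ∈ R, ∀ s ∈ R, ∃ w : W, rep cs h w r = s)
    (hnb : ∀ k, ∃ y ∈ R, y ≠ fr k ∧ y ≠ -fr k ∧ form cs h y (fr k) ≠ 0)
    {E : Set (Equiv.Perm (Fin m))} (hE : Cfsg.Agent.H745.PermTwo.Good E)
    (hperm : ∀ σ ∈ E, ∃ w : W, ∀ k, rep cs h w (fr k) = fr (σ k) ∨ rep cs h w (fr k) = -fr (σ k))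
    (i₀ : Fin m) {r₀ : I → ℤ} (hr₀ : r₀ ∈ R) {φ : SL2 F →* Y} (H : SLAt Z φ r₀) : Cen Y := by
  have h1 : ∀ k, ∃ φ : SL2 F →* Y, SLAt Z φ (fr k) := by
    intro k
    obtain ⟨w, hw⟩ := htr _ hr₀ _ (Fs.mem k)
    obtain ⟨g, hg⟩ := exists_rp cs C.rgd.nsys w
    have h2 := H.conj C hr₀ hg
    rw [hw] at h2
    exact ⟨_, h2⟩
  choose ψ hψ using h1
  exact cen_of_frame hF (frame C hp hp2 hG hF Fs hno hTc hsep htr hnb hE hperm hψ) i₀

end OfCls

section Chev

open Subgroup CoxeterSystem Cfsg.Agent.ChevalleyStructure.CoxeterGeom Cfsg.Agent.Tits.Roots Cfsg.Agent.Tits.Core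
  Cfsg.Agent.Nodes.Comb Cfsg.Agent.Nodes.Reps Cfsg.Agent.Nodes.BNOf Cfsg.Agent.Nodes.RGDLib Cfsg.Agent.Nodes.Chart
  Cfsg.Agent.Nodes.Coroot Cfsg.Agent.Nodes.ClsInv
  Cfsg.Agent.Nodes.KindBase Cfsg.Agent.Nodes.KindChev
open Cfsg.Lie Cfsg.Agent.ChevalleyStructure Cfsg.Agent.ChevalleyStructure.Elts
  Cfsg.Agent.ChevalleyStructure.NPerm Cfsg.Agent.ChevalleyStructure.CoxeterGeomTypes Cfsg.Agent.Nodes.RGDChev
  Cfsg.Agent.KFacts.RgdChevCoord

open Cfsg.Agent.H745.RowE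

section General

variable {D : ChevalleyDatum} {l : ℕ} {M : CoxeterMatrix (Fin l)} (hp : IsType D l M) {K : Type u} [Field K]
  {p : ℕ} [Fact p.Prime] [CharP K p]

open Cfsg.Agent.Nodes.RGDFold Cfsg.Agent.Nodes.RGDFoldSL
open Cfsg.Agent.Nodes.Bruhat Cfsg.Agent.H745.RowCls Cfsg.Agent.H132

variable {f : ℕ} {N : ℤ} {d : Fin l → ℤ} {fr cf : Fin f → Fin l → ℤ} {idx : Fin f → ℕ}

include hp in
/-- **General theorem for the Chevalley groups with a frame of roots of length `N`.** -/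
theorem cen_chev [Finite K] (hp2 : p ≠ 2) (T : KD D l f N d fr cf idx) (k₀ : Fin f) (hd : ∀ i, 0 < d i ∧ 2 * d i ≤ N)
    (hL : ∀ s < D.nroots, (∀ i, vec D l s i = fr k₀ i) ∨ (∀ i, vec D l s i = -fr k₀ i) ∨
      |∑ i, vec D l s i * cf k₀ i| ≤ 1)
    (hL' : ∀ s < D.nroots, ∀ k, (∀ i, vec D l s i = fr k i) ∨ (∀ i, vec D l s i = -fr k i) ∨
      |∑ i, vec D l s i * cf k i| ≤ 1)
    (hZ : Subgroup.center ↥(D.group K) = ⊥) (i : Fin l) (hi : 2 * d i = N) {s : ℕ} (hs : s < D.nroots)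
    (hca : D.cartan i s = 1)
    (hno : ∀ r < D.nroots, ∃ k, ∑ i, vec D l r i * cf k i ≠ 0)
    {E : Set (Equiv.Perm (Fin f))} (hE : Cfsg.Agent.H745.PermTwo.Good E)
    (hperm : ∀ σ ∈ E, ∃ r < D.nroots, ∃ r' < D.nroots, qf (cartanOf D l) d (vec D l r) (vec D l r) = N ∧
      qf (cartanOf D l) d (vec D l r') (vec D l r') = N ∧ qf (cartanOf D l) d (vec D l r') (vec D l r) = 0 ∧
      ∀ k j, fr k j - (∑ i, vec D l r i * cf k i) * vec D l r j - (∑ i, vec D l r' i * cf k i) * vec D l r' j =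
        fr (σ k) j) : Cen ↥(D.group K) := by
  have := Fintype.ofFinite K
  let _ := Cfsg.Agent.Nodes.ChevChart.fintypeW hp
  have C := Cfsg.Agent.Nodes.ChevCls.cls (K := K) hp M.toCoxeterSystem p T k₀ hd hL hZ
  have hG : GG M.toCoxeterSystem hp.isCartan (TT D K) (XX D l K) = ⊤ := by
    rw [eq_top_iff, ← G1_eq_top hp M.toCoxeterSystem]
    exact le_sup_right
  have hiR : sr i ∈ RN M.toCoxeterSystem (h := hp.isCartan) N d := by
    refine ⟨isRoot_sr _ _ i, ?_⟩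
    have h1 := qf_root M.toCoxeterSystem hp.isCartan T.hd 1 i
    rw [map_one, Module.End.one_apply] at h1
    rw [h1, hi]
  obtain ⟨φ, hφ⟩ := exists_slAt hp (K := K) (p := p) hp2 i hs hca
  have Fs := T.frameSys (cs := M.toCoxeterSystem) (h := hp.isCartan) hp
  have hcpr : ∀ (x : Fin l → ℤ) (k : Fin f), cpr M.toCoxeterSystem hp.isCartan x (fr k) = ∑ i, x i * cf k i :=
    fun x k => T.cpr hp x k
  have hfz : ∀ (x : Fin l → ℤ) (k : Fin f), form M.toCoxeterSystem hp.isCartan x (fr k) ≠ 0 ↔ ∑ i, x i * cf k i ≠ 0 := by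
    intro x k
    rw [← hcpr, Ne, Ne, cpr_zero_iff _ _ _ (T.isRoot hp k)]
  refine cen_of_cls C Fact.out ((Fact.out : p.Prime).odd_of_ne_two hp2) hG (odd_card_of p hp2) Fs ?_
    (torus_comm hp M.toCoxeterSystem hZ) ?_ (fun r hr s hs => T.trans (cs := M.toCoxeterSystem) (h := hp.isCartan) hp hr hs) ?_ hE ?_
    k₀ hiR hφ
  · intro x hx
    obtain ⟨r, hr, rfl⟩ := (isRoot_iff hp _ x).1 hx
    obtain ⟨k, hk⟩ := hno r hr
    exact ⟨k, (hfz _ k).2 hk⟩
  · intro k m hkm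
    obtain ⟨r, hr, h1, h2⟩ := T.sep k m hkm
    have hne : ∀ j, (∑ i, vec D l r i * cf j i) % 2 = 1 → vec D l r ≠ fr j ∧ vec D l r ≠ -fr j := by
      intro j hj
      rw [← hcpr] at hj
      constructor
      · intro h3
        rw [h3, cpr_self _ _ (T.isRoot hp j)] at hj
        omega
      · intro h3
        rw [h3, cpr_neg _ _ _ (T.isRoot hp j), cpr_self _ _ (T.isRoot hp j)] at hj
        omega
    refine ⟨vec D l r, isRoot_vec hp _ hr, (hne k h1).1, (hne k h1).2, (hfz _ k).2 (by omega), ?_⟩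
    rw [← cpr_zero_iff _ _ _ (T.isRoot hp m), hcpr]
    rcases hL' r hr m with h3 | h3 | h3
    · exfalso
      have h4 : vec D l r = fr m := funext h3
      rw [h4, ← hcpr, Fs.orth m k (Ne.symm hkm)] at h1
      omega
    · exfalso
      have h4 : vec D l r = -fr m := funext h3
      rw [h4, ← hcpr, cpr_neg _ _ _ (T.isRoot hp k), Fs.orth m k (Ne.symm hkm)] at h1
      omega
    · rw [abs_le] at h3
      omega
  · intro k
    obtain ⟨r, hr, h1, h2, -⟩ := T.link k k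
    refine ⟨vec D l r, ⟨isRoot_vec hp _ hr, h1⟩, ?_, ?_, (hfz _ k).2 (fun h3 => by rw [h3] at h2; omega)⟩
    · intro h3
      rw [← hcpr, h3, cpr_self _ _ (T.isRoot hp k)] at h2
      omega
    · intro h3
      rw [← hcpr, h3, cpr_neg _ _ _ (T.isRoot hp k), cpr_self _ _ (T.isRoot hp k)] at h2
      omega
  · intro σ hσ
    obtain ⟨r, hr, r', hr', hN, hN', h0, htab⟩ := hperm σ hσ
    have hb := isRoot_vec hp M.toCoxeterSystem hr
    have hb' := isRoot_vec hp M.toCoxeterSystem hr'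
    obtain ⟨s, hs⟩ := Cfsg.Agent.Nodes.KindBase.exists_refl M.toCoxeterSystem hp.isCartan hb
    obtain ⟨s', hs'⟩ := Cfsg.Agent.Nodes.KindBase.exists_refl M.toCoxeterSystem hp.isCartan hb'
    have hc : ∀ {r : ℕ} (hr : r < D.nroots) (hN : qf (cartanOf D l) d (vec D l r) (vec D l r) = N) (k : Fin f),
        cpr M.toCoxeterSystem hp.isCartan (fr k) (vec D l r) = ∑ i, vec D l r i * cf k i := by
      intro r hr hN k
      rw [← hcpr]
      exact cpr_comm_of_qf M.toCoxeterSystem hp.isCartan T.hd (T.isRoot hp k) (isRoot_vec hp _ hr)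
        (by rw [T.norm, hN]) (by rw [hN]; exact T.hN)
    have h00 : cpr M.toCoxeterSystem hp.isCartan (vec D l r') (vec D l r) = 0 := by
      apply mul_right_cancel₀ (b := N) T.hN
      have := cpr_mul_qf M.toCoxeterSystem hp.isCartan T.hd (vec D l r') hb
      rw [hN, h0] at this
      rw [this]; ring
    refine ⟨s * s', fun k => Or.inl ?_⟩
    rw [rep_mul_apply, hs', hs, cpr_sub _ _ _ _ hb, cpr_smul _ _ _ _ hb, h00, hc hr hN, hc hr' hN', mul_zero, sub_zero]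
    funext j
    rw [← htab k j]
    simp only [Pi.sub_apply, Pi.smul_apply, smul_eq_mul]
    ring

end General

section Types

variable {K : Type u} [Field K] [Finite K] {p : ℕ} [Fact p.Prime] [CharP K p]

open Cfsg.Agent.Nodes Cfsg.Agent.Nodes.ChevChart Cfsg.Agent.Cit.TypeDet.KindsEF

set_option backward.isDefEq.respectTransparency false in
theorem cen_chevE6 (h2 : p ≠ 2) : Cen ↥(chevE6.group K) :=
  cen_chev (p := p) KindE.isType6 h2 KindE.kd6 0 (fun _ => ⟨by norm_num, by norm_num⟩) long6 all6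
    (center_of_mem (by simp)) 0 (by decide) (s := 16) (by decide +kernel) (by decide +kernel) no6 Cfsg.Agent.H745.PermTwo.good_four (by
      rintro σ hσ
      rw [Set.mem_singleton_iff] at hσ
      subst hσ
      exact ⟨37, by decide +kernel, 42, by decide +kernel, by decide +kernel, by decide +kernel, by decide +kernel, tab6⟩)

set_option backward.isDefEq.respectTransparency false in
theorem cen_chevE7 (h2 : p ≠ 2) : Cen ↥(chevE7.group K) :=
  cen_chev (p := p) KindE.isType7 h2 KindE.kd7 0 (fun _ => ⟨by norm_num, by norm_num⟩) long7 all7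
    (center_of_mem (by simp)) 0 (by decide) (s := 1) (by decide +kernel) (by decide +kernel) no7 Cfsg.Agent.H745.PermTwo.good_seven (by
      rintro σ (rfl | rfl)
      · exact ⟨101, by decide +kernel, 115, by decide +kernel, by decide +kernel, by decide +kernel, by decide +kernel, tab7a⟩
      · exact ⟨70, by decide +kernel, 79, by decide +kernel, by decide +kernel, by decide +kernel, by decide +kernel, tab7b⟩)

end Types

theorem cen_E6 {F : Type u} [Field F] [Fintype F] (hodd : Odd (Fintype.card F)) : Cen ↥(chevE6.group F) := by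
  obtain ⟨p, hp⟩ := CharP.exists F
  have hpr : p.Prime := CharP.char_is_prime F p
  haveI : Fact p.Prime := ⟨hpr⟩
  refine cen_chevE6 (p := p) ?_
  rintro rfl
  obtain ⟨n, -, hn⟩ := FiniteField.card F 2
  rw [hn, ← Nat.not_even_iff_odd] at hodd
  exact hodd (Nat.even_pow.2 ⟨even_two, n.pos.ne'⟩)

theorem cen_E7 {F : Type u} [Field F] [Fintype F] (hodd : Odd (Fintype.card F)) : Cen ↥(chevE7.group F) := by
  obtain ⟨p, hp⟩ := CharP.exists F
  have hpr : p.Prime := CharP.char_is_prime F p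
  haveI : Fact p.Prime := ⟨hpr⟩
  refine cen_chevE7 (p := p) ?_
  rintro rfl
  obtain ⟨n, -, hn⟩ := FiniteField.card F 2
  rw [hn, ← Nat.not_even_iff_odd] at hodd
  exact hodd (Nat.even_pow.2 ⟨even_two, n.pos.ne'⟩)

end Chev

section Tw

open Subgroup CoxeterSystem Cfsg.Agent.ChevalleyStructure.CoxeterGeom Cfsg.Agent.Tits.Roots Cfsg.Agent.Tits.Core
  Cfsg.Agent.Nodes.Comb Cfsg.Agent.Nodes.Reps Cfsg.Agent.Nodes.BNOf Cfsg.Agent.Nodes.RGDLib Cfsg.Agent.Nodes.Chart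
  Cfsg.Agent.Nodes.Coroot Cfsg.Agent.Nodes.ClsInv Cfsg.Agent.Nodes.RGDTwGen
  Cfsg.Agent.Nodes.KindBase Cfsg.Agent.Nodes.KindChev
open Cfsg.Lie Cfsg.Agent.ChevalleyStructure Cfsg.Agent.ChevalleyStructure.Elts
  Cfsg.Agent.ChevalleyStructure.NPerm Cfsg.Agent.ChevalleyStructure.CoxeterGeomTypes Cfsg.Agent.Nodes.RGDChev
  Cfsg.Agent.KFacts.RgdChevCoord
open Cfsg.Agent.Nodes.RGDFold Cfsg.Agent.Nodes.RGDFoldSL
open Cfsg.Agent.Nodes Cfsg.Agent.Nodes.Bruhat Cfsg.Agent.ChevalleyStructure.RootVec Cfsg.Agent.ChevalleyStructure.RootVecTab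
open Cfsg.Agent.ChevalleyStructure.TwistedU Cfsg.Agent.ChevalleyStructure.TwistedFix
open Cfsg.Agent.H745.RowCls Cfsg.Agent.H132

open Cfsg.Agent.H745.RowTwE

section Fold

variable {D : ChevalleyDatum} {l m : ℕ} {M' : CoxeterMatrix (Fin l)} (hp : IsType D l M') {K : Type u} [Field K]
  {M : CoxeterMatrix (Fin m)} {W : Type*} [Group W] (cs : CoxeterSystem M W)
  {A : Fin m → Fin m → ℤ} (h : IsCartan M A) {J : Fin m → List (Fin l)} {L : List (List ℕ)}
  {σ : GL D.Idx K →* GL D.Idx K} {ρ ρ' : ℕ → ℕ} {f : ℕ → K → K} {G : Subgroup (GL D.Idx K)} {i₀ : Fin m} {j₀ : Fin l}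
  {φ : K →+* K} (FD : FoldData D M A J L) (FG : FoldGrp hp K J L σ ρ ρ' f G)

open Cfsg.Agent.H132 in
include hp FD FG in
/-- **`Cen` for the twisted group.** -/
theorem cen_fold [Finite K] (p : ℕ) [Fact p.Prime] [CharP K p] (hp2 : p ≠ 2) (hZ : Subgroup.center ↥G = ⊥)
    (N : NodeOK D J L ρ i₀ (D.simple j₀) []) (hf : ∀ s ∈ [D.simple j₀], ∀ t, f s t = φ t)
    (LN : LongNode D A J i₀ j₀) (j₁ : Fin m)
    (h3 : Odd (pairing A i₀ (sr i₀ - pairing A j₁ (sr i₀) • sr j₁))) (h : IsCartan M A) [Fintype M.Group]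
    {t : ℕ} {fr : Fin t → Fin m → ℤ} (Fs : FrameSys M.toCoxeterSystem h (RL M.toCoxeterSystem h i₀) fr)
    (hno : ∀ x, IsRoot M.toCoxeterSystem h x → ∃ k, form M.toCoxeterSystem h x (fr k) ≠ 0)
    (hsep : ∀ k l, k ≠ l → ∃ y, IsRoot M.toCoxeterSystem h y ∧ y ≠ fr k ∧ y ≠ -fr k ∧
      form M.toCoxeterSystem h y (fr k) ≠ 0 ∧ form M.toCoxeterSystem h y (fr l) = 0)
    (hnb : ∀ k, ∃ y ∈ RL M.toCoxeterSystem h i₀, y ≠ fr k ∧ y ≠ -fr k ∧ form M.toCoxeterSystem h y (fr k) ≠ 0)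
    {E : Set (Equiv.Perm (Fin t))} (hE : Cfsg.Agent.H745.PermTwo.Good E)
    (hperm : ∀ σ ∈ E, ∃ w : M.Group, ∀ k, rep M.toCoxeterSystem h w (fr k) = fr (σ k) ∨
      rep M.toCoxeterSystem h w (fr k) = -fr (σ k)) (k₀ : Fin t) : Cen ↥G := by
  have C := cls_fold hp M.toCoxeterSystem h FD FG N hf LN p hZ
  have hF : Finite (Fx φ (([] : List ℕ).length + 1)) := inferInstance
  have := Fintype.ofFinite (Fx φ (([] : List ℕ).length + 1))
  have hcF : CharP (Fx φ (([] : List ℕ).length + 1)) p :=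
    (RingHom.charP_iff (Fx φ (([] : List ℕ).length + 1)).subtype (Fx φ (([] : List ℕ).length + 1)).subtype.injective p).2
      inferInstance
  have hi : D.simple j₀ < D.nroots := simple_lt hp.inList (lt_rank hp j₀)
  have hroot : ∀ y, IsRoot M.toCoxeterSystem h y → ∃ r < D.nroots, V D J r = y := fun y hy =>
    (FD.isRoot_iff hp.checked (fun i r hr => wp_lt hp (J i) hr) y).1 hy
  have hrep : rep M.toCoxeterSystem h (M.toCoxeterSystem.simple j₁) (sr i₀) = sr i₀ - pairing A j₁ (sr i₀) • sr j₁ :=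
    rep_simple_eq _ h j₁ _
  -- injectivity
  have hne : Phi FG N hf (-1) ≠ 1 := by
    intro h4
    obtain ⟨s, hs, e⟩ := hroot _ ((isRoot_sr M.toCoxeterSystem h i₀).act (M.toCoxeterSystem.simple j₁))
    rw [hrep] at e
    rw [← e, LN.pair s hs] at h3
    have h5 := hG_conj (K := K) hp j₀ hs 1
    rw [← coe_zF hp FG N hf, h3.neg_one_zpow] at h5
    unfold zF at h5
    rw [h4, Subgroup.coe_one, one_mul, inv_one, mul_one, mul_one] at h5
    have h6 : (1 : K) = -1 := xG_injective hp.inList hs h5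
    have h7 : ((2 : ℕ) : K) = 0 := by
      push_cast
      linear_combination h6
    rw [CharP.cast_eq_zero_iff K p] at h7
    exact hp2 ((Nat.prime_dvd_prime_iff_eq Fact.out Nat.prime_two).1 h7)
  have hinj := inj_of_neg_one (odd_card_of p hp2) (Phi FG N hf) hne
  have hG : GG M.toCoxeterSystem h (TF (K := K) D G) (XF hp J σ G) = ⊤ := by
    rw [eq_top_iff, ← RGDFold.G1_eq_top M.toCoxeterSystem h FD FG p]
    exact le_sup_right
  refine cen_of_cls C Fact.out ((Fact.out : p.Prime).odd_of_ne_two hp2) hG (odd_card_of p hp2) Fs hno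
    (torus_comm hp) hsep ?_ hnb hE hperm k₀ (r₀ := sr i₀) ⟨1, by rw [map_one, Module.End.one_apply]⟩
    (slAt_Phi hp M.toCoxeterSystem h FD FG p N hf hinj)
  rintro _ ⟨w, rfl⟩ _ ⟨v, rfl⟩
  exact ⟨v * w⁻¹, by rw [rep_mul_apply, rep_inv_apply]⟩

end Fold

open Cfsg.Agent.Nodes.RGDTwNode Cfsg.Agent.Nodes.RGDTwE6

/-- **`Cen` for `²E₆(q)`, `q` odd.** -/
theorem cen_twE6 {K : Type u} [Field K] [Fintype K] {q : ℕ} (hq : IsPrimePow q) (hK : Fintype.card K = q ^ 2)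
    {p : ℕ} [Fact p.Prime] [CharP K p] (hp2 : p ≠ 2) : Cen ↥(twistedE6 K q) := by
  obtain ⟨φ, hφ, hqq⟩ := Cfsg.Agent.ChevalleyStructure.TwE6Basic.exists_frob hq hK
  have FG := RGDTwE6.foldGrp hφ hqq
  have N : NodeOK chevE6 RGDTwE6.J TwistedE6U.L TwistedE6Sigma.rho 0 (chevE6.simple ((1 : Fin 6) : ℕ)) [] := E6.nodeOK 0
  have hf : ∀ s ∈ [chevE6.simple ((1 : Fin 6) : ℕ)], ∀ t : K, ((TwistedE6Sigma.eps s : ℤ) : K) * φ t = φ t := by
    intro s hs t
    rw [E6.eps_one 0 s hs, Int.cast_one, one_mul]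
  have : Finite CoxeterMatrix.F₄.Group :=
    RGDFold.finite_W (hp := RGDTwE6.hp) CoxeterMatrix.F₄.toCoxeterSystem RGDTwE6.isCartan RGDTwE6.foldData
  have := Fintype.ofFinite CoxeterMatrix.F₄.Group
  have h := RGDTwE6.isCartan
  refine cen_fold RGDTwE6.hp (j₀ := 1) RGDTwE6.foldData FG p hp2 (center_eq_bot' (Cfsg.Agent.S1070.result hq hK)) N hf
    longNodeE6 1 (by decide) h (frameSysF _ h) ?_ ?_ ?_ Cfsg.Agent.H745.PermTwo.good_four ?_ 0
  · intro x hx
    obtain ⟨r, hr, rfl⟩ := exists_V _ h hx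
    obtain ⟨k, hk⟩ := noF r hr
    exact ⟨k, fun h0 => hk ((formF _ h _ k).1 h0)⟩
  · intro k l hkl
    obtain ⟨r, hr, h1, h2, h3, h4⟩ := sepF k l hkl
    exact ⟨_, isRoot_V _ h hr, h1, h2, fun h0 => h3 ((formF _ h _ k).1 h0), (formF _ h _ l).2 h4⟩
  · intro k
    obtain ⟨r, hr, h0, h1, h2, h3⟩ := nbF k
    exact ⟨_, (mem_RL_iff _ h _).2 ⟨isRoot_V _ h hr, h0⟩, h1, h2, fun h4 => h3 ((formF _ h _ k).1 h4)⟩
  · intro σ hσ
    rw [Set.mem_singleton_iff] at hσ
    subst hσ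
    refine ⟨CoxeterMatrix.F₄.toCoxeterSystem.simple 2, fun k => Or.inl ?_⟩
    rw [rep_simple_eq _ h 2]
    exact permF k

/-- **The row `²E₆(q)`, `q` odd.** -/
theorem cen_2E6 {K : Type u} [Field K] [Fintype K] {q : ℕ} (hodd : Odd q)
    (hK : Fintype.card K = q ^ 2) : Cen ↥(twistedE6 K q) := by
  have hq : IsPrimePow q := by
    rw [← isPrimePow_pow_iff two_ne_zero, ← hK]
    exact FiniteField.isPrimePow_card K
  obtain ⟨p, hp⟩ := CharP.exists K
  have hpr : p.Prime := CharP.char_is_prime K p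
  haveI : Fact p.Prime := ⟨hpr⟩
  refine cen_twE6 (p := p) hq hK ?_
  rintro rfl
  obtain ⟨n, -, hn⟩ := FiniteField.card K 2
  have h1 : Odd (Fintype.card K) := by rw [hK]; exact hodd.pow
  rw [hn, ← Nat.not_even_iff_odd] at h1
  exact h1 (Nat.even_pow.2 ⟨even_two, n.pos.ne'⟩)

end Tw

open Cfsg.Agent.H408.Pron

theorem po_E6 {F : Type u} [Field F] [Fintype F] (hC : SC ↥(Cfsg.Lie.chevE6.group F)) (hodd : Odd (Fintype.card F)) :
    PO ↥(Cfsg.Lie.chevE6.group F) := (cen_E6 hodd).po hC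

theorem po_E7 {F : Type u} [Field F] [Fintype F] (hC : SC ↥(Cfsg.Lie.chevE7.group F)) (hodd : Odd (Fintype.card F)) :
    PO ↥(Cfsg.Lie.chevE7.group F) := (cen_E7 hodd).po hC

theorem po_2E6 {K : Type u} [Field K] [Fintype K] {q : ℕ} (hC : SC ↥(Cfsg.Lie.twistedE6 K q)) (hodd : Odd q)
    (hK : Fintype.card K = q ^ 2) : PO ↥(Cfsg.Lie.twistedE6 K q) := (cen_2E6 hodd hK).po hC

end Cfsg.Agent.H621.Pron
end

-- part: H621/Pron/G2D4
section
/-!
# S2527: the rows `G₂(q)`, `³D₄(q)`, `q` odd (task 2186, helper621)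
-/

set_option autoImplicit false

namespace Cfsg.Agent.H621.Pron

open Cfsg Cfsg.Lie Cfsg.Agent.ClassificationK.GTwoModel Cfsg.Agent.H408.Pron

/-- groups whose Sylow 2-subgroups are of type `G₂(q)` -/
theorem po_of_equiv {K : Type*} [Group K] [Finite K] (hC : SC K) (P : Sylow 2 K) {k : ℕ} (hk : 1 ≤ k)
    (e : T (2 * 2 ^ k) ≃* (P : Subgroup K)) : PO K := by
  refine PO.of_aut hC P fun φ n hn h => ?_
  have h1 : (MulAut.congr e.symm φ) ^ n = 1 := by
    rw [← map_pow, h, map_one]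
  have h2 := Cfsg.Agent.H779.RowHex.aut_eq_one hk _ hn h1
  exact (MulAut.congr e.symm).injective (h2.trans (map_one _).symm)

theorem po_G2 {F : Type*} [Field F] [Fintype F] (hC : SC ↥(Cfsg.Lie.chevG2.group F)) (hF : Odd (Fintype.card F)) :
    PO ↥(Cfsg.Lie.chevG2.group F) := by
  have hcard : Nat.card ↥(chevG2.group F) =
      Fintype.card F ^ 6 * (Fintype.card F ^ 2 - 1) * (Fintype.card F ^ 6 - 1) :=
    Cfsg.Agent.S1059.result (F := F) rfl
  have : Fact (Nat.Prime 2) := ⟨Nat.prime_two⟩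
  obtain ⟨Q⟩ : Nonempty (Sylow 2 ↥(chevG2.group F)) := inferInstance
  obtain ⟨k, hk, ⟨f⟩⟩ := Cfsg.Agent.ClassificationK.GTwoSylow.exists_equiv hF hcard Q
  exact po_of_equiv hC Q hk f

theorem po_3D4 {E : Type*} [Field E] [Fintype E] {q : ℕ} (hC : SC ↥(Cfsg.Lie.twistedD4 E q)) (hq : Odd q)
    (hE : Fintype.card E = q ^ 3) : PO ↥(Cfsg.Lie.twistedD4 E q) := by
  have : Fact (Nat.Prime 2) := ⟨Nat.prime_two⟩
  obtain ⟨Q⟩ : Nonempty (Sylow 2 ↥(twistedD4 E q)) := inferInstance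
  obtain ⟨k, m, hk, -, -, ⟨f⟩⟩ := Cfsg.Agent.H285.D4Sylow.exists_equiv hq hE Q
  exact po_of_equiv hC Q hk f

end Cfsg.Agent.H621.Pron
end
end

-- part: H208/SelfCoTwoTh
section
set_option linter.all false

/-!
# The Sylow 2-subgroups of `Co2` and `Th` are self-normalizing (helper208)
-/

set_option autoImplicit false

namespace Cfsg.Agent.H208

open Subgroup Cfsg

/-- **`Co2`** -/
theorem selfN_co2 {K : Type*} [Group K] [Finite K] (h : Cfsg.Spor.IsoCo2 K) : Cfsg.Agent.QTNorm.SelfN K := by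
  have hfin := Cfsg.Agent.Schreier.CoTwoStab.finite
  have D := Cfsg.Agent.KFacts.CoTwo.QuotInst.dataT
  obtain ⟨π, hπ, hker⟩ := D.quot
  obtain ⟨e⟩ := h
  exact QTNorm.SelfN.congr e.symm
    (SelfLarge.selfN_of_large D.large D.odd π hπ hker (Cfsg.Agent.H769.SpSix.self))

/-- **`Th`** -/
theorem selfN_th {K : Type*} [Group K] [Finite K] (h : Cfsg.Spor.IsoTh K) : Cfsg.Agent.QTNorm.SelfN K := by
  have hfin := Cfsg.Agent.KFacts.Th.Main.finite
  obtain ⟨π, D⟩ := Cfsg.Agent.KFacts.Th.Main.exists_data Cfsg.Agent.KFacts.Th.Main.ctx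
  obtain ⟨e⟩ := h
  refine QTNorm.SelfN.congr e.symm
    (SelfLarge.selfN_of_large D.large D.odd π D.surj D.ker fun T => ?_)
  exact (Cfsg.Agent.H799.SymSyl.normalizer_alt (by simp) T).le

end Cfsg.Agent.H208
end
end
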